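import Groth.Agent.L27.Rational.Model
import Groth.Agent.S0246
import Groth.Agent.S9680
import Groth.Agent.L27.BirPi1.Full
import Groth.Agent.L27.NormalSepClosed.FEt
import Groth.Prelude.Def_CurvBase

/-! Rational proper normal schemes are simply connected. -/

set_option autoImplicit false
set_option linter.style.haveILetI false
set_option backward.isDefEq.respectTransparency.types false

universe u

open CategoryTheory CategoryTheory.Limits AlgebraicGeometry

namespace Groth.L27.Rational

variable {k : Type u} [Field k]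

/-- simple connectedness passes to a normal proper scheme along a birational map -/
theorem sc_of_birational {Z X : Scheme.{u}} (p : Z ⟶ Spec (CommRingCat.of k)) [IsProper p] [Smooth p]
    [IsIntegral Z] (q : X ⟶ Spec (CommRingCat.of k)) [IsProper q] [IsIntegral X] (hN : Pi1.IsNormalScheme X)
    (U : Z.Opens) (hU : Dense (U : Set Z)) (e : U.toScheme ⟶ X) [IsOpenImmersion e] (he : e ≫ q = U.ι ≫ p)
    (hsc : SC Z) : SC X := by
  intro V hV
  haveI : IsLocallyNoetherian Z := LocallyOfFiniteType.isLocallyNoetherian p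
  haveI : CompactSpace Z := QuasiCompact.compactSpace_of_compactSpace p
  haveI : IsNoetherian Z := {}
  haveI := hV
  haveI : Nonempty U.toScheme := hU.nonempty.to_subtype
  obtain ⟨hVi, -⟩ := Groth.Agent.S0246.result hN V
  haveI := hVi
  let hv : V.left ⟶ X := V.hom
  haveI : IsFinite hv := V.prop.1
  haveI : Etale hv := V.prop.2
  obtain ⟨A, ⟨i⟩⟩ := BirPi1.exists_lift_cover (fun z => Groth.L08.Cube.isRegularLocalRing_of_smooth p z) p q U hU e he V
  let ha : A.left ⟶ Z := A.hom
  haveI : IsFinite ha := A.prop.1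
  haveI : Etale ha := A.prop.2
  let il : pullback ha U.ι ≅ pullback hv e := (MorphismProperty.Over.forget _ _ _ ⋙ Over.forget _).mapIso i
  have hil : il.hom ≫ pullback.snd hv e = pullback.snd ha U.ι := MorphismProperty.Over.w i.hom
  have hdense : Dense (Set.range (pullback.fst ha U.ι)) := by
    rw [Scheme.Pullback.range_fst, Scheme.Opens.range_ι]
    exact hU.preimage ha.isOpenMap
  haveI hne : Nonempty ↥(pullback hv e) := by
    obtain ⟨v₀⟩ : Nonempty V.left := inferInstance
    obtain ⟨z, hz⟩ : ∃ z, hv z ∈ Set.range e := by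
      obtain ⟨_, -, ⟨z, rfl⟩, hz⟩ := PreirreducibleSpace.isPreirreducible_univ (X := X) _ _ hv.isOpenMap.isOpen_range
        e.isOpenEmbedding.isOpen_range ⟨hv v₀, trivial, v₀, rfl⟩ ⟨e (Classical.arbitrary U.toScheme), trivial, _, rfl⟩
      exact ⟨z, hz⟩
    obtain ⟨a, ha'⟩ := hz
    exact ⟨(Scheme.Pullback.exists_preimage_pullback z a ha'.symm).choose⟩
  haveI : IsIntegral (pullback hv e) := isIntegral_of_isOpenImmersion (pullback.fst hv e)
  haveI : ConnectedSpace ↥(pullback ha U.ι) := il.inv.homeomorph.surjective.connectedSpace il.inv.homeomorph.continuous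
  haveI : ConnectedSpace A.left := by
    have h1 : _root_.IsConnected (closure (Set.range (pullback.fst ha U.ι))) :=
      (isConnected_range (pullback.fst ha U.ι).continuous).closure
    rw [hdense.closure_eq] at h1
    exact connectedSpace_iff_univ.2 h1
  haveI : IsIso ha := hsc A inferInstance
  haveI : IsIso (pullback.snd ha U.ι) := (IsPullback.of_hasPullback ha U.ι).isIso_snd_of_isIso
  haveI : IsIso (pullback.snd hv e) := by
    rw [show pullback.snd hv e = il.inv ≫ pullback.snd ha U.ι by rw [← hil, il.inv_hom_id_assoc]]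
    infer_instance
  exact NormalSepClosed.isIso_of_restrict hv e (BirPi1.meetsClopens_of_dense e (by
    refine dense_iff_inter_open.2 fun W hW hWne => ?_
    obtain ⟨z⟩ : Nonempty U.toScheme := hne.map (pullback.snd hv e)
    obtain ⟨x, hx⟩ := hWne
    obtain ⟨y, -, hy1, hy2⟩ := PreirreducibleSpace.isPreirreducible_univ (X := X) W (Set.range e) hW
      e.isOpenEmbedding.isOpen_range ⟨x, trivial, hx⟩ ⟨e z, trivial, z, rfl⟩
    exact ⟨y, hy1, hy2⟩))

/-- an integral scheme with the function field of an affine one is birational to it -/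
theorem birationalOver_spec (R : CommRingCat.{u}) [IsDomain R] (φ : CommRingCat.of k ⟶ R)
    (hφ : φ.hom.FinitePresentation) (X : Scheme.{u}) [X.Over (Spec (CommRingCat.of k))]
    [LocallyOfFinitePresentation (X ↘ Spec (CommRingCat.of k))] [IsIntegral X]
    (E : FractionRing R ≃+* X.presheaf.stalk (genericPoint X))
    (hE : ∀ c : k, E (algebraMap R (FractionRing R) (φ c)) = Curv2.stalkMap k X (genericPoint X) c) :
    Scheme.BirationalOver (Spec.map φ) (X ↘ Spec (CommRingCat.of k)) := by
  let sY := Spec.map φ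
  let sX := X ↘ Spec (CommRingCat.of k)
  haveI : LocallyOfFinitePresentation sY := (HasRingHomProperty.Spec_iff (P := @LocallyOfFinitePresentation)).2 hφ
  let e₂ : FractionRing R ≃ₐ[R] (Spec R).functionField := FractionRing.algEquiv _ _
  let E' : (Spec R).presheaf.stalk (genericPoint (Spec R)) ≅ X.presheaf.stalk (genericPoint X) :=
    (e₂.symm.toRingEquiv.trans E).toCommRingCatIso
  haveI : Subsingleton ↥(Spec (CommRingCat.of k)) := inferInstanceAs (Subsingleton (PrimeSpectrum k))
  refine (Groth.Agent.S9680.result sY sX).2 ⟨Subsingleton.elim _ _, E', ?_⟩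
  apply TopCat.Presheaf.stalk_hom_ext
  intro W hW
  obtain rfl : W = ⊤ := top_le_iff.1 fun x _ => (Subsingleton.elim _ x) ▸ hW
  have hg : ∀ (x y : ↥(Spec (CommRingCat.of k))) (h : x = y),
      (Spec (CommRingCat.of k)).presheaf.germ ⊤ x trivial ≫ eqToHom (congrArg (Spec (CommRingCat.of k)).presheaf.stalk h) =
        (Spec (CommRingCat.of k)).presheaf.germ ⊤ y trivial := fun x y h => by subst h; simp
  rw [Scheme.Hom.germ_stalkMap_assoc, reassoc_of% (hg _ _ (Subsingleton.elim _ _)), Scheme.Hom.germ_stalkMap]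
  rw [← cancel_epi (Scheme.ΓSpecIso (CommRingCat.of k)).inv]
  refine CommRingCat.hom_ext (RingHom.ext fun c => ?_)
  show E (e₂.symm ((Spec R).presheaf.germ ⊤ (genericPoint (Spec R)) trivial (sY.appTop ((Scheme.ΓSpecIso (CommRingCat.of k)).inv c)))) = _
  rw [show sY.appTop ((Scheme.ΓSpecIso (CommRingCat.of k)).inv c) = (Scheme.ΓSpecIso R).inv (φ c) from
    (ConcreteCategory.congr_hom (Scheme.ΓSpecIso_inv_naturality φ) c).symm]
  show E (e₂.symm (algebraMap R (Spec R).functionField (φ c))) = _
  rw [AlgEquiv.commutes, hE]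
  rfl

/-- a rational scheme is birational to affine space -/
theorem birationalOver_of_rational (X : Scheme.{u}) [X.Over (Spec (CommRingCat.of k))]
    [LocallyOfFinitePresentation (X ↘ Spec (CommRingCat.of k))] [IsIntegral X] (r : ℕ)
    (e : letI := Curv2.stalkAlgebra k X (genericPoint X)
      X.presheaf.stalk (genericPoint X) ≃ₐ[k] FractionRing (MvPolynomial (Fin r) k)) :
    Scheme.BirationalOver (Spec.map (CommRingCat.ofHom (algebraMap k (MvPolynomial (Fin r) k))))
      (X ↘ Spec (CommRingCat.of k)) := by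
  letI := Curv2.stalkAlgebra k X (genericPoint X)
  refine birationalOver_spec (CommRingCat.of (MvPolynomial (Fin r) k)) _
    (RingHom.finitePresentation_algebraMap.2 inferInstance) X e.symm.toRingEquiv fun c => ?_
  show e.symm (algebraMap (MvPolynomial (Fin r) k) _ (algebraMap k (MvPolynomial (Fin r) k) c)) = _
  rw [← IsScalarTower.algebraMap_apply, AlgEquiv.commutes]
  rfl

end Groth.L27.Rational

namespace Groth.L27.Rational

/-- rational proper normal schemes over an algebraically closed field are simply connected -/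
theorem sc_of_rational {k : Type u} [Field k] [IsAlgClosed k] (X : Scheme.{u})
    [X.Over (Spec (CommRingCat.of k))] [IsProper (X ↘ Spec (CommRingCat.of k))] [IsIntegral X]
    (hN : Pi1.IsNormalScheme X) (r : ℕ)
    (e : letI := Curv2.stalkAlgebra k X (genericPoint X)
      X.presheaf.stalk (genericPoint X) ≃ₐ[k] FractionRing (MvPolynomial (Fin r) k)) : SC X := by
  haveI : IsNoetherianRing k := inferInstance
  haveI : LocallyOfFinitePresentation (X ↘ Spec (CommRingCat.of k)) := inferInstance
  obtain ⟨F, hF⟩ := birationalOver_of_rational X r e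
  obtain ⟨Z, p, hp, hps, hZ, hsc, j, hj, hjp⟩ := exists_model k r
  let U : Z.Opens := j ''ᵁ F.source
  have hr : Set.range (F.source.ι ≫ j) = Set.range U.ι := by
    rw [Scheme.Hom.comp_base, TopCat.coe_comp, Set.range_comp, Scheme.Opens.range_ι, Scheme.Opens.range_ι]
    rfl
  haveI : IsIso (IsOpenImmersion.lift U.ι (F.source.ι ≫ j) hr.subset) := by
    exact (IsOpenImmersion.isoOfRangeEq (F.source.ι ≫ j) U.ι hr).isIso_hom
  let L := IsOpenImmersion.lift U.ι (F.source.ι ≫ j) hr.subset
  have hL : L ≫ U.ι = F.source.ι ≫ j := IsOpenImmersion.lift_fac _ _ _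
  have hU : Dense (U : Set Z) := by
    obtain ⟨w, hw⟩ := F.dense_source.nonempty
    exact dense_iff_inter_open.2 fun W hW hWne => by
      obtain ⟨x, hx⟩ := hWne
      obtain ⟨y, -, h1, h2⟩ := PreirreducibleSpace.isPreirreducible_univ (X := Z) W (U : Set Z) hW U.2
        ⟨x, trivial, hx⟩ ⟨j w, trivial, ⟨w, hw, rfl⟩⟩
      exact ⟨y, h1, h2⟩
  refine sc_of_birational p (X ↘ Spec (CommRingCat.of k)) hN U hU (inv L ≫ F.iso.hom ≫ F.target.ι) ?_ hsc
  rw [Category.assoc, Category.assoc, IsIso.inv_comp_eq, reassoc_of% hL, hjp]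
  exact hF

end Groth.L27.Rational
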