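import Groth.Agent.L27.Rational.SC
import Groth.Agent.L27.HomotopySeq.Basic
import Groth.Agent.S7810
import Groth.Agent.L16.ProjSpace.Basic
import Groth.Agent.L27.BirPi1.Equiv
import Groth.Agent.L08.Cube.SmoothStalk
import Groth.Agent.L25.SplitSub.Normal
import Mathlib.RingTheory.TensorProduct.MvPolynomial

/-! A simply connected smooth proper model of affine space. -/

set_option autoImplicit false
set_option linter.style.haveILetI false
set_option backward.isDefEq.respectTransparency.types false

universe u

open CategoryTheory CategoryTheory.Limits AlgebraicGeometry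
open scoped TensorProduct

namespace Groth.L27.Rational

variable (k : Type u) [Field k] [IsAlgClosed k]

theorem sc_spec : SC (Spec (CommRingCat.of k)) := by
  intro V hV
  let π : V.left ⟶ Spec (CommRingCat.of k) := V.hom
  haveI : Etale π := V.prop.2
  obtain ⟨a, ha, hk⟩ := HomotopySeq.exists_const π (𝟙 V.left)
  exact ⟨a, (hk.trans (congrArg (· ≫ a) (Category.id_comp π))).symm, ha⟩

theorem sc_projLine : SC (CohB1.ProjSpace 1 k) := by
  intro V hV
  let π : V.left ⟶ CohB1.ProjSpace 1 k := V.hom
  haveI : IsFinite π := V.prop.1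
  haveI : Etale π := V.prop.2
  haveI := hV
  haveI := Groth.Agent.AbDualLib.geometricallyConnected_of_algClosed (π ≫ CohB1.ProjSpace.toSpec 1 k)
  exact Groth.Agent.S7810.result k π

/-- affine space has a simply connected smooth proper model -/
theorem exists_model (r : ℕ) :
    ∃ (Z : Scheme.{u}) (p : Z ⟶ Spec (CommRingCat.of k)), IsProper p ∧ Smooth p ∧ IsIntegral Z ∧ SC Z ∧
      ∃ j : Spec (CommRingCat.of (MvPolynomial (Fin r) k)) ⟶ Z, IsOpenImmersion j ∧
        j ≫ p = Spec.map (CommRingCat.ofHom (algebraMap k (MvPolynomial (Fin r) k))) := by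
  induction r with
  | zero =>
    refine ⟨Spec (CommRingCat.of k), 𝟙 _, inferInstance, inferInstance, inferInstance, sc_spec k,
      Spec.map (CommRingCat.ofHom (algebraMap k (MvPolynomial (Fin 0) k))), ?_, Category.comp_id _⟩
    haveI : IsIso (CommRingCat.ofHom (algebraMap k (MvPolynomial (Fin 0) k))) :=
      inferInstanceAs (IsIso (MvPolynomial.isEmptyRingEquiv k (Fin 0)).symm.toCommRingCatIso.hom)
    infer_instance
  | succ r ih =>
    obtain ⟨Z, p, hp, hps, hZ, hsc, j, hj, hjp⟩ := ih
    let q := CohB1.ProjSpace.toSpec 1 k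
    haveI : IsNoetherianRing k := inferInstance
    haveI : IsLocallyNoetherian Z := LocallyOfFiniteType.isLocallyNoetherian p
    let P := pullback q p
    let pP : P ⟶ Spec (CommRingCat.of k) := pullback.snd q p ≫ p
    haveI : IsProper pP := inferInstance
    haveI : Smooth pP := inferInstance
    haveI : IsLocallyNoetherian P := LocallyOfFiniteType.isLocallyNoetherian pP
    haveI : ConnectedSpace P := by
      haveI := Groth.Agent.AbDualLib.geometricallyConnected_of_algClosed q
      haveI : Surjective q := ⟨fun z => ⟨Groth.L16.ProjSpace.genericPt 1 k, Subsingleton.elim (α := Spec (CommRingCat.of k)) _ _⟩⟩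
      infer_instance
    haveI : IsIntegral P := Groth.L25.SplitSub.isIntegral_of_normal
      (Groth.L27.BirPi1.isNormal_of_regular fun x => Groth.L08.Cube.isRegularLocalRing_of_smooth pP x)
    let σ := Groth.L16.ProjSpace.ChartVar 1 0
    let R := MvPolynomial σ k
    let T := MvPolynomial (Fin r) k
    haveI : Fintype σ := inferInstance
    have hcard : Fintype.card (σ ⊕ Fin r) = r + 1 := by
      rw [Fintype.card_sum, Fintype.card_fin]
      have : Fintype.card σ = 1 := by simp [σ, Groth.L16.ProjSpace.ChartVar, Fintype.card_subtype_compl]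
      omega
    let e : (R ⊗[k] T) ≃ₐ[k] MvPolynomial (Fin (r + 1)) k :=
      (MvPolynomial.tensorEquivSum k σ (Fin r) k).trans (MvPolynomial.renameEquiv k (Fintype.equivFinOfCardEq hcard))
    let m : pullback (Spec.map (CommRingCat.ofHom (algebraMap k R))) (Spec.map (CommRingCat.ofHom (algebraMap k T))) ⟶ P :=
      pullback.map _ _ _ _ (Groth.L16.ProjSpace.chart 1 k 0) j (𝟙 _)
        (by rw [Category.comp_id, Groth.L16.ProjSpace.chart_toSpec]; rfl) (by rw [Category.comp_id, hjp])
    let ε : Spec (CommRingCat.of (MvPolynomial (Fin (r + 1)) k)) ⟶ Spec (CommRingCat.of (R ⊗[k] T)) :=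
      Spec.map (CommRingCat.ofHom e.toRingEquiv.toRingHom)
    haveI : IsIso (CommRingCat.ofHom e.toRingEquiv.toRingHom) := inferInstanceAs (IsIso e.toRingEquiv.toCommRingCatIso.hom)
    haveI : IsIso ε := inferInstance
    haveI : IsOpenImmersion m := inferInstance
    refine ⟨P, pP, inferInstance, inferInstance, inferInstance, sc_prod q p (sc_projLine k) hsc,
      ε ≫ (pullbackSpecIso k R T).inv ≫ m, inferInstance, ?_⟩
    have h1 : m ≫ pP = pullback.snd _ _ ≫ Spec.map (CommRingCat.ofHom (algebraMap k T)) := by
      rw [show m ≫ pP = (m ≫ pullback.snd q p) ≫ p from (Category.assoc _ _ _).symm, pullback.lift_snd,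
        Category.assoc, hjp]
    simp only [Category.assoc]
    rw [h1, pullbackSpecIso_inv_snd_assoc, ← Spec.map_comp, ← Spec.map_comp]
    congr 1
    refine CommRingCat.hom_ext (RingHom.ext fun x => ?_)
    show e (Algebra.TensorProduct.includeRight (algebraMap k T x)) = algebraMap k _ x
    rw [AlgHom.commutes, e.commutes]

end Groth.L27.Rational
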