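import Groth.Agent.L27.Product.Split
import Groth.Prelude.Def_Pi1
import Mathlib.AlgebraicGeometry.Limits

/-! Simply connected schemes and their products. -/

set_option autoImplicit false
set_option linter.style.haveILetI false
set_option backward.isDefEq.respectTransparency.types false

universe u

open CategoryTheory CategoryTheory.Limits AlgebraicGeometry

namespace Groth.L27.Rational

/-- every connected finite etale cover is trivial -/
def SC (X : Scheme.{u}) : Prop := ∀ V : FEt.Cat X, ConnectedSpace V.left → IsIso V.hom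

/-- covers of a simply connected Noetherian scheme split -/
theorem isSplit_of_sc {X : Scheme.{u}} [IsNoetherian X] (h : SC X) (Y : FEt.Cat X) : Pi1.IsSplit Y := by
  let hY : Y.left ⟶ X := Y.hom
  haveI : IsFinite hY := Y.prop.1
  haveI : Etale hY := Y.prop.2
  haveI : IsLocallyNoetherian Y.left := LocallyOfFiniteType.isLocallyNoetherian hY
  haveI : CompactSpace Y.left := QuasiCompact.compactSpace_of_compactSpace hY
  let ι : Type u := {C : Set Y.left // ∃ y, C = connectedComponent y}
  let O : ι → Y.left.Opens := fun C => ⟨C.1, by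
    obtain ⟨_, y, rfl⟩ := C; exact (Product.isClopen_connectedComponent y).2⟩
  have hdis : ∀ C D : ι, C ≠ D → Disjoint (C.1) (D.1) := by
    rintro ⟨_, a, rfl⟩ ⟨_, b, rfl⟩ hne
    rw [Set.disjoint_left]
    exact fun x ha hb => hne (Subtype.ext ((connectedComponent_eq ha).trans (connectedComponent_eq hb).symm))
  haveI : Finite ι := by
    obtain ⟨F, hF⟩ := (isCompact_univ (X := Y.left)).elim_finite_subcover (fun C : ι => (O C : Set Y.left))
      (fun C => (O C).2) fun y _ => Set.mem_iUnion.2 ⟨⟨_, y, rfl⟩, mem_connectedComponent⟩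
    refine Finite.of_surjective (fun C : F => C.1) fun C => ?_
    obtain ⟨y, hy⟩ := C.2
    have hmem : y ∈ C.1 := hy ▸ mem_connectedComponent
    obtain ⟨D, hD, hyD⟩ := Set.mem_iUnion₂.1 (hF (Set.mem_univ y))
    exact ⟨⟨D, hD⟩, by_contra fun hne => (hdis D C hne).le_bot ⟨hyD, hmem⟩⟩
  have hiso : ∀ C : ι, IsIso ((O C).ι ≫ hY) := by
    intro C
    haveI hc : ConnectedSpace ↥(O C).toScheme := by
      obtain ⟨_, y, rfl⟩ := C; exact isConnected_iff_connectedSpace.1 isConnected_connectedComponent
    haveI : IsClosedImmersion (O C).ι := IsClosedImmersion.of_isPreimmersion (O C).ι (by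
      rw [Scheme.Opens.range_ι]; obtain ⟨_, y, rfl⟩ := C; exact (Product.isClopen_connectedComponent y).1)
    exact h (MorphismProperty.Over.mk ⊤ ((O C).ι ≫ hY) ⟨inferInstance, inferInstance⟩) hc
  let s : ι → (X ⟶ Y.left) := fun C => haveI := hiso C; inv ((O C).ι ≫ hY) ≫ (O C).ι
  have hs : ∀ C, s C ≫ hY = 𝟙 X := fun C => by
    haveI := hiso C; simp only [s, Category.assoc, IsIso.inv_hom_id]
  haveI : ∀ C, IsOpenImmersion (s C) := fun C => by haveI := hiso C; simp only [s]; infer_instance
  have hr : ∀ C, Set.range (s C) = C.1 := fun C => by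
    haveI := hiso C
    show Set.range (inv ((O C).ι ≫ hY) ≫ (O C).ι) = _
    rw [Scheme.Hom.comp_base, TopCat.coe_comp, Set.range_comp,
      (inv ((O C).ι ≫ hY)).homeomorph.surjective.range_eq |> fun e => (e : Set.range ⇑(inv ((O C).ι ≫ hY)).base = _),
      Set.image_univ]
    exact Scheme.Opens.range_ι _
  haveI : IsOpenImmersion (Sigma.desc s) := isOpenImmersion_sigmaDesc _ _ fun C D hne => by
    show Disjoint (Set.range (s C)) (Set.range (s D))
    rw [hr, hr]; exact hdis C D hne
  haveI : Surjective (Sigma.desc s) := ⟨fun y => by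
    obtain ⟨x, hx⟩ : y ∈ Set.range (s ⟨_, y, rfl⟩) := by rw [hr]; exact mem_connectedComponent
    refine ⟨Sigma.ι (fun _ : ι => X) ⟨_, y, rfl⟩ x, ?_⟩
    rw [← Scheme.Hom.comp_apply, Sigma.ι_desc]; exact hx⟩
  haveI : IsIso (Sigma.desc s) := (isIso_iff_isOpenImmersion_and_surjective _).2 ⟨inferInstance, inferInstance⟩
  refine ⟨ι, inferInstance, (asIso (Sigma.desc s)).symm, fun C => ?_⟩
  show Sigma.ι (fun _ : ι => X) C ≫ Sigma.desc s ≫ hY = 𝟙 X
  rw [Sigma.ι_desc_assoc, hs]

variable {k : Type u} [Field k] [IsAlgClosed k]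

/-- products of simply connected schemes -/
theorem sc_prod {B A : Scheme.{u}} (pB : B ⟶ Spec (CommRingCat.of k)) (pA : A ⟶ Spec (CommRingCat.of k))
    [IsProper pB] [ConnectedSpace B] [IsLocallyNoetherian A] [ConnectedSpace A] (hB : SC B) (hA : SC A) :
    SC (pullback pB pA) := by
  intro Z hZ
  obtain ⟨P, U, hPc, -, ⟨i⟩⟩ := Product.exists_split_family_connected pB pA Z
  haveI := hB P hPc
  let μ := pullback.map (P.hom ≫ pB) pA pB pA P.hom (𝟙 A) (𝟙 _)
    (Category.comp_id _) ((Category.comp_id _).trans (Category.id_comp _).symm)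
  let f := pullback.snd (P.hom ≫ pB) pA
  haveI : IsIso μ := inferInstanceAs (IsIso (pullback.map _ _ _ _ _ _ _ _ _))
  let il : pullback U.hom f ≅ pullback Z.hom μ := (MorphismProperty.Over.forget _ _ _ ⋙ Over.forget _).mapIso i
  have hil : il.hom ≫ pullback.snd Z.hom μ = pullback.snd U.hom f := MorphismProperty.Over.w i.hom
  haveI : IsIso (pullback.fst Z.hom μ) := (IsPullback.of_hasPullback Z.hom μ).isIso_fst_of_isIso
  let e : pullback U.hom f ≅ Z.left := il ≪≫ asIso (pullback.fst Z.hom μ)
  haveI : ConnectedSpace ↥(pullback U.hom f) := e.inv.homeomorph.surjective.connectedSpace e.inv.homeomorph.continuous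
  haveI : Surjective (P.hom ≫ pB) := ⟨fun z => by
    obtain ⟨x⟩ := hPc.toNonempty
    exact ⟨x, Subsingleton.elim (α := Spec (CommRingCat.of k)) _ _⟩⟩
  haveI : Surjective f := MorphismProperty.pullback_snd _ _ inferInstance
  haveI : Surjective (pullback.fst U.hom f) := MorphismProperty.pullback_fst _ _ inferInstance
  haveI := hA U ((pullback.fst U.hom f).surjective.connectedSpace (pullback.fst U.hom f).continuous)
  haveI : IsIso (pullback.snd U.hom f) := (IsPullback.of_hasPullback U.hom f).isIso_snd_of_isIso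
  haveI : IsIso (pullback.snd Z.hom μ) := by
    rw [show pullback.snd Z.hom μ = il.inv ≫ pullback.snd U.hom f by rw [← hil, il.inv_hom_id_assoc]]
    infer_instance
  rw [← (IsIso.inv_comp_eq (pullback.fst Z.hom μ)).2 (pullback.condition (f := Z.hom) (g := μ)).symm]
  infer_instance

end Groth.L27.Rational
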