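import Groth.Agent.L27.Rational.Main
import Groth.Agent.L19.SpreadLfp
import Groth.Agent.L27.Deg.FibCard

/-! Unirational proper normal schemes have a universal cover. -/

set_option autoImplicit false
set_option linter.style.haveILetI false
set_option backward.isDefEq.respectTransparency.types false

universe u

open CategoryTheory CategoryTheory.Limits AlgebraicGeometry TopologicalSpace

namespace Groth.L27.Rational

/-- a point of a discrete fibre of an integral scheme over the generic point is the generic point -/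
theorem eq_genericPoint {V X : Scheme.{u}} [IsIntegral V] [IsIntegral X] (hv : V ⟶ X) [IsFinite hv] (y : V)
    (hy : hv y = genericPoint X) : y = genericPoint V := by
  have h1 : genericPoint V ⤳ y := genericPoint_specializes y
  have h2 : hv (genericPoint V) = genericPoint X :=
    ((genericPoint_specializes _).antisymm (hy ▸ h1.map hv.continuous)).eq.symm
  haveI := (hv.isDiscrete_preimage_singleton (genericPoint X)).to_subtype
  have h3 : (⟨genericPoint V, h2⟩ : hv ⁻¹' {genericPoint X}) ⤳ ⟨y, hy⟩ := (subtype_specializes_iff _ _).2 h1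
  exact (congrArg Subtype.val h3.eq).symm

/-- finite etale morphisms onto connected schemes from nonempty schemes are surjective -/
theorem surjective_of_connected {A B : Scheme.{u}} [ConnectedSpace B] [Nonempty A] (h : A ⟶ B) [IsFinite h]
    [Etale h] : Surjective h :=
  ⟨Set.range_eq_univ.1 ((IsClopen.eq_univ ⟨h.isClosedMap.isClosed_range, h.isOpenMap.isOpen_range⟩
    (Set.range_nonempty h)))⟩

/-- the degree of a cover at a geometric generic point -/
noncomputable def deg {X : Scheme.{u}} {Ω : Type u} [Field Ω] (ξ : Spec (CommRingCat.of Ω) ⟶ X) (V : FEt.Cat X) : ℕ :=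
  Nat.card (FEt.fiberObj ξ V)

section

variable {k : Type u} [Field k] {Z X : Scheme.{u}} (p : Z ⟶ Spec (CommRingCat.of k)) [IsProper p] [Smooth p]
    [IsIntegral Z] (q : X ⟶ Spec (CommRingCat.of k)) [IsProper q] [IsIntegral X]

include p q in
/-- degrees of connected covers are bounded -/
theorem exists_deg_bound (hN : Pi1.IsNormalScheme X) (U : Z.Opens) (e : U.toScheme ⟶ X) (he : e ≫ q = U.ι ≫ p)
    (u : U.toScheme) (hu : e u = genericPoint X) (hsc : SC Z) {Ω : Type u} [Field Ω] [IsAlgClosed Ω]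
    (ξ : Spec (CommRingCat.of Ω) ⟶ X) (hξ : ξ default = genericPoint X) :
    ∃ N : ℕ, ∀ V : FEt.Cat X, ConnectedSpace V.left → deg ξ V ≤ N := by
  haveI : IsLocallyNoetherian Z := LocallyOfFiniteType.isLocallyNoetherian p
  haveI : CompactSpace Z := QuasiCompact.compactSpace_of_compactSpace p
  haveI : IsNoetherian Z := {}
  haveI : Nonempty U.toScheme := ⟨u⟩
  haveI : IsIntegral U.toScheme := isIntegral_of_isOpenImmersion U.ι
  have hU : Dense (U : Set Z) := U.2.dense ⟨U.ι u, u.2⟩
  haveI : LocallyOfFiniteType e := by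
    haveI : LocallyOfFiniteType (e ≫ q) := by rw [he]; infer_instance
    exact locallyOfFiniteType_of_comp e q
  haveI : QuasiCompact e := by
    haveI : QuasiCompact (e ≫ q) := by rw [he]; infer_instance
    exact QuasiCompact.of_comp e q
  let G := pullback e ξ
  haveI : IsLocallyNoetherian G := LocallyOfFiniteType.isLocallyNoetherian (pullback.snd e ξ)
  haveI : CompactSpace G := QuasiCompact.compactSpace_of_compactSpace (pullback.snd e ξ)
  haveI : AlgebraicGeometry.IsNoetherian G := {}
  haveI : Finite (irreducibleComponents G) := NoetherianSpace.finite_irreducibleComponents.to_subtype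
  refine ⟨Nat.card (irreducibleComponents G), fun V hV => ?_⟩
  haveI := hV
  obtain ⟨hVi, -⟩ := Groth.Agent.S0246.result hN V
  haveI := hVi
  let hv : V.left ⟶ X := V.hom
  haveI : IsFinite hv := V.prop.1
  haveI : Etale hv := V.prop.2
  haveI : Surjective hv := surjective_of_connected hv
  obtain ⟨A, ⟨i⟩⟩ := BirPi1.exists_lift_cover (fun z => Groth.L08.Cube.isRegularLocalRing_of_smooth p z) p q U hU e he V
  let ha : A.left ⟶ Z := A.hom
  let il : pullback ha U.ι ≅ pullback hv e := (MorphismProperty.Over.forget _ _ _ ⋙ Over.forget _).mapIso i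
  have hil : il.hom ≫ pullback.snd hv e = pullback.snd ha U.ι := MorphismProperty.Over.w i.hom
  obtain ⟨ι, _, e', he'⟩ := isSplit_of_sc hsc A
  haveI : Nonempty ι := by
    obtain ⟨w, hw⟩ := hv.surjective (e u)
    obtain ⟨z, -, -⟩ := Scheme.Pullback.exists_preimage_pullback (f := hv) (g := e) w u hw
    obtain ⟨c, -⟩ := (sigmaMk fun _ : ι => Z).surjective (e'.hom (pullback.fst ha U.ι (il.inv z)))
    exact ⟨c.1⟩
  let s : Z ⟶ A.left := Sigma.ι (fun _ : ι => Z) (Classical.arbitrary ι) ≫ e'.inv
  have hs : s ≫ ha = 𝟙 Z := by rw [Category.assoc]; exact he' _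
  let σ : U.toScheme ⟶ V.left :=
    pullback.lift (U.ι ≫ s) (𝟙 _) (by rw [Category.assoc, hs, Category.comp_id, Category.id_comp]) ≫
      il.hom ≫ pullback.fst hv e
  have hσ : σ ≫ hv = e := by
    simp only [σ, Category.assoc]
    rw [pullback.condition, reassoc_of% hil, pullback.lift_snd_assoc, Category.id_comp]
  let μ : G ⟶ pullback hv ξ :=
    pullback.map e ξ hv ξ σ (𝟙 _) (𝟙 _) (by rw [Category.comp_id, hσ]) (by simp)
  have he0 : e (genericPoint U.toScheme) = genericPoint X :=
    (((genericPoint_specializes u).map e.continuous).trans (hu ▸ specializes_rfl) |>.antisymm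
      (genericPoint_specializes _)).eq
  have hσ0 : σ (genericPoint U.toScheme) = genericPoint V.left :=
    eq_genericPoint hv _ (by rw [← Scheme.Hom.comp_apply, hσ, he0])
  haveI : Subsingleton ↥(Spec (CommRingCat.of Ω)) := inferInstanceAs (Subsingleton (PrimeSpectrum Ω))
  have hsurj : Function.Surjective μ := by
    intro z
    have hz : hv (pullback.fst hv ξ z) = genericPoint X := by
      rw [← Scheme.Hom.comp_apply, pullback.condition, Scheme.Hom.comp_apply, ← hξ]
      exact congrArg ξ (Subsingleton.elim _ _)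
    have hz' : pullback.fst hv ξ z ∈ Set.range σ := ⟨_, hσ0.trans (eq_genericPoint hv _ hz).symm⟩
    have : z ∈ Set.range μ := by
      rw [Scheme.Pullback.range_map]
      exact ⟨hz', ⟨pullback.snd hv ξ z, rfl⟩⟩
    exact this
  let qP := pullback.snd hv ξ
  haveI : IsFinite qP := inferInstance
  haveI : Etale qP := inferInstance
  haveI : IsAffine (pullback hv ξ) := isAffine_of_isAffineHom qP
  haveI : DiscreteTopology ↥(pullback hv ξ) := by
    have h := qP.isDiscrete_preimage_singleton default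
    rw [show qP ⁻¹' {default} = Set.univ from Set.eq_univ_of_forall fun z => Subsingleton.elim _ _] at h
    exact isDiscrete_univ_iff.1 h
  haveI : Surjective qP := inferInstance
  calc deg ξ V = Nat.card ↥(pullback hv ξ) := by
        rw [deg, L27.Deg.card_fiber ξ V, L27.Deg.card_points qP, Scheme.Hom.finrank_pullback_snd hv ξ default]
    _ ≤ Nat.card (irreducibleComponents G) := by
        refine Nat.card_le_card_of_surjective
          (fun C => μ C.2.1.nonempty.some) ?_
        intro z
        obtain ⟨g, rfl⟩ := hsurj z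
        refine ⟨⟨irreducibleComponent g, irreducibleComponent_mem_irreducibleComponents g⟩, ?_⟩
        exact ((isIrreducible_irreducibleComponent.image μ μ.continuous.continuousOn).isPreirreducible.subsingleton)
          ⟨_, Set.Nonempty.some_mem _, rfl⟩ ⟨g, mem_irreducibleComponent, rfl⟩

end

/-- bounded degrees give a dominating connected cover -/
theorem exists_dominating {X : Scheme.{u}} [IsIntegral X] [IsLocallyNoetherian X] {Ω : Type u} [Field Ω]
    [IsAlgClosed Ω] (ξ : Spec (CommRingCat.of Ω) ⟶ X) (N : ℕ)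
    (hN : ∀ V : FEt.Cat X, ConnectedSpace V.left → deg ξ V ≤ N) :
    ∃ Z₀ : FEt.Cat X, ConnectedSpace Z₀.left ∧ ∀ Z : FEt.Cat X, ConnectedSpace Z.left → Nonempty (Z₀ ⟶ Z) := by
  let S : Set ℕ := {n | ∃ V : FEt.Cat X, ConnectedSpace V.left ∧ deg ξ V = n}
  have hSne : S.Nonempty := ⟨_, MorphismProperty.Over.mk ⊤ (𝟙 X) (MorphismProperty.id_mem _ X),
    inferInstanceAs (ConnectedSpace X), rfl⟩
  obtain ⟨Z₀, hc₀, hd₀⟩ := Nat.sSup_mem hSne ⟨N, fun n ⟨V, hV, h⟩ => h ▸ hN V hV⟩
  refine ⟨Z₀, hc₀, fun Z hZ => ?_⟩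
  haveI := hc₀
  haveI := hZ
  let h0 : Z₀.left ⟶ X := Z₀.hom
  let hz : Z.left ⟶ X := Z.hom
  haveI : IsFinite h0 := Z₀.prop.1
  haveI : Etale h0 := Z₀.prop.2
  haveI : IsFinite hz := Z.prop.1
  haveI : Etale hz := Z.prop.2
  haveI : Surjective h0 := surjective_of_connected h0
  haveI : Surjective hz := surjective_of_connected hz
  obtain ⟨a, ha⟩ := h0.surjective (genericPoint X)
  obtain ⟨b, hb⟩ := hz.surjective (genericPoint X)
  obtain ⟨w, -, -⟩ := Scheme.Pullback.exists_preimage_pullback (f := h0) (g := hz) a b (ha.trans hb.symm)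
  haveI : IsLocallyNoetherian (pullback h0 hz) :=
    LocallyOfFiniteType.isLocallyNoetherian (pullback.fst h0 hz ≫ h0)
  let O : (pullback h0 hz).Opens := ⟨connectedComponent w, (Product.isClopen_connectedComponent w).2⟩
  haveI : ConnectedSpace ↥O.toScheme := isConnected_iff_connectedSpace.1 isConnected_connectedComponent
  haveI : IsClosedImmersion O.ι := IsClosedImmersion.of_isPreimmersion O.ι (by
    rw [Scheme.Opens.range_ι]; exact (Product.isClopen_connectedComponent w).1)
  let h : O.toScheme ⟶ Z₀.left := O.ι ≫ pullback.fst h0 hz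
  haveI : IsFinite h := inferInstance
  haveI : Etale h := inferInstance
  haveI : Surjective h := surjective_of_connected h
  let W : FEt.Cat X := MorphismProperty.Over.mk ⊤ (h ≫ h0) ⟨inferInstance, inferInstance⟩
  let Wh : FEt.Cat Z₀.left := MorphismProperty.Over.mk ⊤ h ⟨inferInstance, inferInstance⟩
  haveI : ConnectedSpace W.left := inferInstanceAs (ConnectedSpace ↥O.toScheme)
  have hle : deg ξ W ≤ deg ξ Z₀ := hd₀ ▸ le_csSup ⟨N, fun n ⟨V, hV, e⟩ => e ▸ hN V hV⟩ ⟨W, inferInstance, rfl⟩
  let F : FEt.fiberObj ξ W → FEt.fiberObj ξ Z₀ := fun s => ⟨s.1 ≫ h, (Category.assoc _ _ _).trans s.2⟩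
  have hone : ∀ (t : Spec (CommRingCat.of Ω) ⟶ Z₀.left), 1 ≤ Nat.card (FEt.fiberObj t Wh) := by
    intro t
    rw [L27.Deg.card_fiber]
    exact (Scheme.Hom.one_le_finrank_iff_surjective h).2 inferInstance _
  haveI : ∀ t : Spec (CommRingCat.of Ω) ⟶ Z₀.left, Nonempty (FEt.fiberObj t Wh) :=
    fun t => (Nat.card_pos_iff.1 (hone t)).1
  have hF : Function.Surjective F := fun t => by
    obtain ⟨s⟩ : Nonempty (FEt.fiberObj t.1 Wh) := inferInstance
    exact ⟨⟨s.1, (Category.assoc s.1 h h0).symm.trans ((congrArg (· ≫ h0) s.2).trans t.2)⟩, Subtype.ext s.2⟩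
  have hpos : 1 ≤ deg ξ Z₀ := by
    rw [deg, L27.Deg.card_fiber]
    exact (Scheme.Hom.one_le_finrank_iff_surjective h0).2 inferInstance _
  haveI : Finite (FEt.fiberObj ξ W) := Nat.finite_of_card_ne_zero (by
    have : 1 ≤ deg ξ W := by
      rw [deg, L27.Deg.card_fiber]
      exact (Scheme.Hom.one_le_finrank_iff_surjective (h ≫ h0)).2 inferInstance _
    exact (Nat.one_le_iff_ne_zero.1 this))
  haveI : Finite (FEt.fiberObj ξ Z₀) := Nat.finite_of_card_ne_zero (Nat.one_le_iff_ne_zero.1 hpos)
  have hbij : Function.Bijective F :=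
    (Nat.bijective_iff_surjective_and_card F).2 ⟨hF, le_antisymm hle (Nat.card_le_card_of_surjective F hF)⟩
  obtain ⟨⟨t, ht⟩⟩ : Nonempty (FEt.fiberObj ξ Z₀) := (Nat.card_pos_iff.1 hpos).1
  haveI : Subsingleton (FEt.fiberObj t Wh) := ⟨fun s s' => Subtype.ext (congrArg (fun x : FEt.fiberObj ξ W => x.1)
    (hbij.1 (a₁ := ⟨s.1, (Category.assoc s.1 h h0).symm.trans ((congrArg (· ≫ h0) s.2).trans ht)⟩)
      (a₂ := ⟨s'.1, (Category.assoc s'.1 h h0).symm.trans ((congrArg (· ≫ h0) s'.2).trans ht)⟩)
      (Subtype.ext (s.2.trans s'.2.symm))))⟩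
  have h1 : h.finrank (t default) = 1 :=
    (L27.Deg.card_fiber t Wh).symm.trans (Nat.card_eq_one_iff_unique.2 ⟨inferInstance, inferInstance⟩)
  haveI : IsIso h := (Scheme.Hom.isIso_iff_finrank_eq h).2 (funext fun z =>
    (h.isLocallyConstant_finrank.apply_eq_of_preconnectedSpace z (t default)).trans h1)
  refine ⟨MorphismProperty.Over.homMk (inv h ≫ O.ι ≫ pullback.snd h0 hz) ?_⟩
  show (inv h ≫ O.ι ≫ pullback.snd h0 hz) ≫ hz = h0
  rw [Category.assoc, Category.assoc, ← pullback.condition, IsIso.inv_comp_eq, Category.assoc]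

/-- an embedding of the function field gives a rational map -/
theorem exists_dominant_map {k : Type u} [Field k] (R : CommRingCat.{u}) [IsDomain R] (φk : CommRingCat.of k ⟶ R)
    (X : Scheme.{u}) [X.Over (Spec (CommRingCat.of k))] [LocallyOfFinitePresentation (X ↘ Spec (CommRingCat.of k))]
    [IsIntegral X] (ψ : X.presheaf.stalk (genericPoint X) →+* FractionRing R)
    (hψ : ∀ c : k, ψ (Curv2.stalkMap k X (genericPoint X) c) = algebraMap R (FractionRing R) (φk c)) :
    ∃ (U : (Spec R).Opens) (f : U.toScheme ⟶ X) (u : U.toScheme),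
      f ≫ (X ↘ Spec (CommRingCat.of k)) = U.ι ≫ Spec.map φk ∧ f u = genericPoint X := by
  let sY := Spec.map φk
  let sX := X ↘ Spec (CommRingCat.of k)
  let e₂ : FractionRing R ≃ₐ[R] (Spec R).functionField := FractionRing.algEquiv _ _
  let φ : X.presheaf.stalk (genericPoint X) ⟶ (Spec R).presheaf.stalk (genericPoint (Spec R)) :=
    CommRingCat.ofHom (e₂.toRingEquiv.toRingHom.comp ψ)
  haveI : Subsingleton ↥(Spec (CommRingCat.of k)) := inferInstanceAs (Subsingleton (PrimeSpectrum k))
  have h : sX.stalkMap (genericPoint X) ≫ φ = (Spec (CommRingCat.of k)).presheaf.stalkSpecializes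
      (Inseparable.of_eq (Subsingleton.elim (sY (genericPoint (Spec R))) (sX (genericPoint X)))).specializes ≫
        sY.stalkMap (genericPoint (Spec R)) := by
    apply TopCat.Presheaf.stalk_hom_ext
    intro W hW
    obtain rfl : W = ⊤ := top_le_iff.1 fun x _ => (Subsingleton.elim _ x) ▸ hW
    rw [Scheme.Hom.germ_stalkMap_assoc, TopCat.Presheaf.germ_stalkSpecializes_assoc, Scheme.Hom.germ_stalkMap]
    rw [← cancel_epi (Scheme.ΓSpecIso (CommRingCat.of k)).inv]
    refine CommRingCat.hom_ext (RingHom.ext fun c => ?_)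
    show e₂ (ψ (Curv2.stalkMap k X (genericPoint X) c)) =
      (Spec R).presheaf.germ ⊤ (genericPoint (Spec R)) trivial (sY.appTop ((Scheme.ΓSpecIso (CommRingCat.of k)).inv c))
    rw [show sY.appTop ((Scheme.ΓSpecIso (CommRingCat.of k)).inv c) = (Scheme.ΓSpecIso R).inv (φk c) from
      (ConcreteCategory.congr_hom (Scheme.ΓSpecIso_inv_naturality φk) c).symm, hψ, AlgEquiv.commutes]
    rfl
  obtain ⟨U, hxU, f, hf, hfc⟩ := L19.SpreadLfp.spread_out sY sX (Subsingleton.elim _ _) φ h
  refine ⟨U, f, ⟨genericPoint (Spec R), hxU⟩, hfc, ?_⟩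
  have h1 := congrArg (fun m : Spec ((Spec R).presheaf.stalk (genericPoint (Spec R))) ⟶ X =>
    m (IsLocalRing.closedPoint _)) hf
  simp only [Scheme.Hom.comp_apply] at h1
  haveI : Subsingleton ↥(Spec (X.presheaf.stalk (genericPoint X))) :=
    inferInstanceAs (Subsingleton (PrimeSpectrum X.functionField))
  rw [Subsingleton.elim (Spec.map φ _) (IsLocalRing.closedPoint _), Scheme.fromSpecStalk_closedPoint] at h1
  refine Eq.trans (congrArg f ?_) h1.symm
  exact U.ι.isOpenEmbedding.injective (by
    rw [← Scheme.Hom.comp_apply, Scheme.Opens.fromSpecStalkOfMem_ι, Scheme.fromSpecStalk_closedPoint]; rfl)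

/-- unirational proper normal schemes have a universal cover -/
theorem exists_universal_of_unirational {k : Type u} [Field k] [IsAlgClosed k] (X : Scheme.{u})
    [X.Over (Spec (CommRingCat.of k))] [IsProper (X ↘ Spec (CommRingCat.of k))] [IsIntegral X]
    (hN : Pi1.IsNormalScheme X) (r : ℕ)
    (hU : letI := Curv2.stalkAlgebra k X (genericPoint X)
      Nonempty (X.presheaf.stalk (genericPoint X) →ₐ[k] FractionRing (MvPolynomial (Fin r) k))) :
    ∃ Z₀ : FEt.Cat X, ConnectedSpace Z₀.left ∧ ∀ Z : FEt.Cat X, ConnectedSpace Z.left → Nonempty (Z₀ ⟶ Z) := by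
  letI := Curv2.stalkAlgebra k X (genericPoint X)
  obtain ⟨ψ⟩ := hU
  haveI : IsNoetherianRing k := inferInstance
  let sX := X ↘ Spec (CommRingCat.of k)
  haveI : LocallyOfFinitePresentation (X ↘ Spec (CommRingCat.of k)) := inferInstance
  haveI : IsLocallyNoetherian X := LocallyOfFiniteType.isLocallyNoetherian sX
  obtain ⟨U, f, u, hfc, hu⟩ := exists_dominant_map (CommRingCat.of (MvPolynomial (Fin r) k))
    (CommRingCat.ofHom (algebraMap k (MvPolynomial (Fin r) k))) X ψ.toRingHom fun c => by
      show ψ (algebraMap k (X.presheaf.stalk (genericPoint X)) c) = _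
      rw [AlgHom.commutes]
      exact IsScalarTower.algebraMap_apply k (MvPolynomial (Fin r) k) _ c
  obtain ⟨Z, p, hp, hps, hZ, hsc, j, hj, hjp⟩ := exists_model k r
  let U' : Z.Opens := j ''ᵁ U
  have hr : Set.range (U.ι ≫ j) = Set.range U'.ι := by
    rw [Scheme.Hom.comp_base, TopCat.coe_comp, Set.range_comp, Scheme.Opens.range_ι, Scheme.Opens.range_ι]
    rfl
  let L := IsOpenImmersion.lift U'.ι (U.ι ≫ j) hr.subset
  haveI : IsIso L := by
    exact (IsOpenImmersion.isoOfRangeEq (U.ι ≫ j) U'.ι hr).isIso_hom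
  have hL : L ≫ U'.ι = U.ι ≫ j := IsOpenImmersion.lift_fac _ _ _
  let Ω := AlgebraicClosure (X.residueField (genericPoint X))
  let ξ : Spec (CommRingCat.of Ω) ⟶ X :=
    Spec.map (CommRingCat.ofHom (algebraMap (X.residueField (genericPoint X)) Ω)) ≫
      X.fromSpecResidueField (genericPoint X)
  have hξ : ξ default = genericPoint X := by
    rw [Scheme.Hom.comp_apply]; exact Scheme.fromSpecResidueField_apply _ _
  obtain ⟨N, hb⟩ := exists_deg_bound p sX hN U' (inv L ≫ f)
    (by rw [Category.assoc, IsIso.inv_comp_eq, reassoc_of% hL, hjp]; exact hfc)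
    (L u)
    (by rw [← Scheme.Hom.comp_apply, IsIso.hom_inv_id_assoc, hu]) hsc ξ hξ
  exact exists_dominating ξ N hb

end Groth.L27.Rational
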